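import Groth.Agent.StMod.K949.QfRep
import Groth.Agent.AlgSp.K634.FiniteMor

/-!
# From universal arrows over affine objects back to `RepByAlgSpWith IsFiniteMor`

* `repByAlgSpWith_of_toBase` : `RepByAlgSpWith P p` from a representation of `fibCat p τ` over the base of `τ`, for all `τ`;
* `prop_of_isRep` : the structure morphism of a universal arrow over any object has `P` when `IsRep P p`, `P` local on the target;
* `repByAlgSpWith_finite` (B).
-/

set_option autoImplicit false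
set_option linter.unusedVariables false
set_option linter.style.haveILetI false
set_option backward.isDefEq.respectTransparency false
set_option backward.isDefEq.respectTransparency.types false

universe v' w' v w u

open CategoryTheory CategoryTheory.Limits AlgebraicGeometry Opposite StMod AlgSt AlgSp

namespace K949.FinRep

open K906 K862.Rep K862.Over K908.Aff K908.LunaRep K949.QfRep K735.Rep K735.Fib K735.Fp

variable {S : Scheme.{u}} {𝒳 : BasedCategory.{v, w} (Over S)} {𝒴 : BasedCategory.{v', w'} (Over S)}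

/-- `fp y p` and `fibCat p τ` over the base, `τ = y(1)`. -/
theorem repOver_fpFst (h𝒳 : FibCat.IsFibGrpd 𝒳.p) {P : MorphismProperty (Sp S)} {p : 𝒴 ⥤ᵇ 𝒳} (τ : 𝒳.obj)
    (y : FibCat.overCat (𝒳.p.obj τ) ⥤ᵇ 𝒳) (ε : y.obj (K734.Fib.one _) ≅ τ) (hε : K734.Fib.IsVert 𝒳 ε.hom)
    (h : RepOver P (toBase p τ)) : RepOver P (FibCat.fpFst y p) := by
  let E : FibCat.fp y p ⥤ᵇ fibCat p τ := BasedFunctor.comp (fpToFib y p) (fibMap p ε.hom)
  have hE : FibCat.IsEquivOver E := IsEquivOver.comp (isEquivOver_fpToFib y p h𝒳) (isEquivOver_fibMap p _)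
  have hstr : ∀ z : (FibCat.fp y p).obj, fbase (E.obj z) = eqToHom (fp_snd_eq z) ≫ Over.hom z.obj.fst := by
    intro z
    change fbase ((fibMap p ε.hom).obj ((fpToFib y p).obj z)) = _
    rw [fbase_fibMap, fbase_fpToFib, hε.map_eq]
    simp
  have hiso : BasedFunctor.comp E (toBase p τ) ≅ FibCat.fpFst y p := by
    refine mkIso (fun z => Over.isoMk (eqToIso (fp_snd_eq z)) ?_) ?_ ?_
    · change eqToHom (fp_snd_eq z) ≫ Over.hom z.obj.fst = fbase (E.obj z)
      rw [hstr]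
    · intro z z' m
      refine Over.OverMorphism.ext ?_
      change 𝒴.p.map m.hom.snd ≫ eqToHom (fp_snd_eq z') = eqToHom (fp_snd_eq z) ≫ m.hom.fst.left
      rw [fp_map_snd]
      simp
      rfl
    · intro z
      exact vert_of_map_eq (fp_snd_eq z) rfl
  exact h.of_equiv' E hE hiso

/-- `RepByAlgSpWith` object by object. -/
theorem repByAlgSpWith_of_toBase (h𝒳 : FibCat.IsFibGrpd 𝒳.p) {P : MorphismProperty (Sp S)} {p : 𝒴 ⥤ᵇ 𝒳}
    (h : ∀ τ : 𝒳.obj, RepOver P (toBase p τ)) : AlgSt.RepByAlgSpWith P p := by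
  have key : ∀ (τ : 𝒳.obj) (U : Over S) (_ : 𝒳.p.obj τ = U) (y : FibCat.overCat U ⥤ᵇ 𝒳)
      (ε : y.obj (K734.Fib.one _) ≅ τ) (_ : K734.Fib.IsVert 𝒳 ε.hom), RepOver P (FibCat.fpFst y p) := by
    intro τ U hU
    subst hU
    intro y ε hε
    exact repOver_fpFst h𝒳 τ y ε hε (h τ)
  intro U y
  exact key (y.obj (K734.Fib.one U)) U (y.w_obj _) y (Iso.refl _) (K734.Fib.IsVert.id _)

/-- The structure morphism of a universal arrow over any object. -/
theorem prop_of_isRep {P : MorphismProperty Scheme.{u}} [IsZariskiLocalAtTarget P] (h𝒳 : FibCat.IsFibGrpd 𝒳.p)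
    (h𝒴 : FibCat.IsFibGrpd 𝒴.p) {p : 𝒴 ⥤ᵇ 𝒳} (hp : IsRep P p) {ξ : 𝒳.obj} {y : 𝒴.obj} {α : p.obj y ⟶ ξ}
    (hα : IsTerm p α) : P (str p α) := by
  rw [IsZariskiLocalAtTarget.iff_of_openCover (P := P) (sch 𝒳 ξ).affineCover]
  intro i
  let V : Over S := Over.mk ((sch 𝒳 ξ).affineCover.f i ≫ (𝒳.p.obj ξ).hom)
  let j : V ⟶ 𝒳.p.obj ξ := Over.homMk ((sch 𝒳 ξ).affineCover.f i) rfl
  obtain ⟨ξ', φ, hφ⟩ := K734.Fib.exists_lift h𝒳 rfl j
  obtain ⟨y', ψ, α', h1, h2, h3⟩ := exists_isTerm_bc h𝒳 h𝒴 φ hα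
  have hV : 𝒳.p.obj ξ' = V := IsHomLift.domain_eq 𝒳.p j φ
  have hb : bmap 𝒳 φ = (eqToHom hV).left ≫ (sch 𝒳 ξ).affineCover.f i := by
    have h4 : 𝒳.p.map φ = eqToHom hV ≫ j := by
      rw [IsHomLift.fac' 𝒳.p j φ]
      simp
    change (𝒳.p.map φ).left = _
    rw [h4]
    rfl
  have I : IsIso (eqToHom hV).left := inferInstanceAs (IsIso ((Over.forget S).map (eqToHom hV)))
  have hξ' : IsAffine (sch 𝒳 ξ') := by
    haveI : IsAffine V.left := inferInstanceAs (IsAffine ((sch 𝒳 ξ).affineCover.X i))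
    exact IsAffine.of_isIso (eqToHom hV).left
  have h5 : P (str p α') := hp.prop hξ' h1
  have sq : IsPullback (bmap 𝒴 ψ) (str p α' ≫ (eqToHom hV).left) (str p α) ((sch 𝒳 ξ).affineCover.f i) := by
    refine IsPullback.of_iso h3 (Iso.refl _) (Iso.refl _) (asIso (eqToHom hV).left) (Iso.refl _) ?_ ?_ ?_ ?_
    · simp
    · simp
    · simp
    · simp [hb]
  have h6 : P (str p α' ≫ (eqToHom hV).left) := (P.cancel_right_of_respectsIso _ _).2 h5
  have h7 : pullback.snd (str p α) ((sch 𝒳 ξ).affineCover.f i) = sq.isoPullback.inv ≫ str p α' ≫ (eqToHom hV).left := by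
    rw [Iso.eq_inv_comp, sq.isoPullback_hom_snd]
  change P (pullback.snd (str p α) ((sch 𝒳 ξ).affineCover.f i))
  rw [h7]
  exact (P.cancel_left_of_respectsIso _ _).2 h6

/-- (B) back from universal arrows over affine objects to `IsFiniteMor`. -/
theorem repByAlgSpWith_finite (h𝒳 : FibCat.IsFibGrpd 𝒳.p) (h𝒴 : FibCat.IsFibGrpd 𝒴.p) (p : 𝒴 ⥤ᵇ 𝒳)
    (hp : AlgSt.RepByAlgSpWith
      (AlgSp.LocP (@LocallyQuasiFinite ⊓ @LocallyOfFiniteType) ⊓ AlgSp.IsQuasiCompactMor ⊓ AlgSp.IsSeparatedMor) p)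
    (hfin : IsRep @IsFinite p) : AlgSt.RepByAlgSpWith AlgSp.IsFiniteMor p := by
  refine repByAlgSpWith_of_toBase h𝒳 fun τ => ?_
  obtain ⟨F, π, ⟨R⟩, W, i, hi, y, α, h, h1, h2, h3⟩ := exists_secRep_isTerm h𝒳 p hp τ
  obtain ⟨e, he, hπ⟩ := R.exists_equiv
  refine ⟨F, e, he, ?_⟩
  rw [hπ, K634.FiniteMor.isFiniteMor_iff, ← MorphismProperty.cancel_left_of_respectsIso (RepWith @IsFinite) i π, h3,
    repWith_yon_map_iff, Over.comp_left]
  have I : IsIso (eqToHom h).left := inferInstanceAs (IsIso ((Over.forget S).map (eqToHom h)))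
  exact (MorphismProperty.cancel_left_of_respectsIso @IsFinite _ _).2 (prop_of_isRep h𝒳 h𝒴 hfin h1)

end K949.FinRep
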