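import Groth.Agent.StMod.K908.LunaRep
import Groth.Agent.StMod.K862.Over
import Groth.Agent.AlgSt.K738.YonProps

/-!
# Universal arrows of quasi-finite separated representable functors

* `exists_isTerm_qfSep` : over every object there is a universal arrow, with structure morphism in `QfSep`;
* `isRep_qfSep` : the same in the form `IsRep QfSep p`.
-/

set_option autoImplicit false
set_option linter.unusedVariables false
set_option linter.style.haveILetI false
set_option backward.isDefEq.respectTransparency false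
set_option backward.isDefEq.respectTransparency.types false

universe v' w' v w u

open CategoryTheory CategoryTheory.Limits AlgebraicGeometry Opposite StMod AlgSt AlgSp

namespace K949.QfRep

open K906 K862.Rep K862.Over K908.Aff K908.LunaRep

variable {S : Scheme.{u}} {𝒳 : BasedCategory.{v, w} (Over S)} {𝒴 : BasedCategory.{v', w'} (Over S)}

/-- The class of morphisms of algebraic spaces: locally quasi-finite, quasi-compact and separated. -/
abbrev QfSp (S : Scheme.{u}) : MorphismProperty (AlgSp.Sp S) :=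
  AlgSp.LocP (@LocallyQuasiFinite ⊓ @LocallyOfFiniteType) ⊓ AlgSp.IsQuasiCompactMor ⊓ AlgSp.IsSeparatedMor

/-- Universal arrows for quasi-finite separated representable functors, with the representing space. -/
theorem exists_secRep_isTerm (h𝒳 : FibCat.IsFibGrpd 𝒳.p) (p : 𝒴 ⥤ᵇ 𝒳) (hp : AlgSt.RepByAlgSpWith (QfSp S) p) (ξ : 𝒳.obj) :
    ∃ (F : Space S) (π : F.obj ⟶ (yon S).obj (𝒳.p.obj ξ)) (_ : Nonempty (K738.SecRep (toBase p ξ) F.obj π))
      (W : Over S) (i : (yon S).obj W ⟶ F.obj) (_ : IsIso i) (y : 𝒴.obj) (α : p.obj y ⟶ ξ) (h : W = 𝒴.p.obj y),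
      IsTerm p α ∧ QfSep (str p α) ∧ i ≫ π = (yon S).map (eqToHom h ≫ baseOver p y α) := by
  obtain ⟨F, π, ⟨⟨h1, hqc⟩, h2⟩, ⟨R⟩⟩ := exists_secRep_fibCat h𝒳 hp ξ
  obtain ⟨W, i, hi, w, hw⟩ := exists_iso_yon (F := F) (π := π) h1 h2
  obtain ⟨z, h, hz, hzw⟩ := exists_isTerm_of_secRep R i
  refine ⟨F, π, ⟨R⟩, W, i, hi, FObj.pt z, FObj.arr z, h, hz, ?_, hzw⟩
  have e : IsIso (eqToHom h).left := inferInstanceAs (IsIso ((Over.forget S).map (eqToHom h)))
  have h4 : LocP (@LocallyQuasiFinite ⊓ @LocallyOfFiniteType) ((yon S).map (eqToHom h ≫ fbase z)) := by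
    rw [← hzw]
    exact (MorphismProperty.cancel_left_of_respectsIso _ i π).2 h1
  have h5 : IsSeparatedMor ((yon S).map (eqToHom h ≫ fbase z)) := by
    rw [← hzw]
    exact (MorphismProperty.cancel_left_of_respectsIso _ i π).2 h2
  have h6 : IsQuasiCompactMor ((yon S).map (eqToHom h ≫ fbase z)) := by
    rw [← hzw]
    exact (MorphismProperty.cancel_left_of_respectsIso _ i π).2 hqc
  have h7 := locP_yon_map h4
  have h8 := (isSeparatedMor_yon_map_iff _).1 h5
  have h9 := (K738.isQuasiCompactMor_yon_iff _).1 h6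
  rw [Over.comp_left] at h7 h8 h9
  exact ⟨(MorphismProperty.cancel_left_of_respectsIso (@LocallyQuasiFinite ⊓ @LocallyOfFiniteType) _ _).1 h7,
    (MorphismProperty.cancel_left_of_respectsIso @QuasiCompact _ _).1 h9,
    (MorphismProperty.cancel_left_of_respectsIso @IsSeparated _ _).1 h8⟩

/-- (A) quasi-finite separated representable functors have universal arrows. -/
theorem isRep_qfSep (h𝒳 : FibCat.IsFibGrpd 𝒳.p) (p : 𝒴 ⥤ᵇ 𝒳)
    (hp : AlgSt.RepByAlgSpWith
      (AlgSp.LocP (@LocallyQuasiFinite ⊓ @LocallyOfFiniteType) ⊓ AlgSp.IsQuasiCompactMor ⊓ AlgSp.IsSeparatedMor) p) :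
    IsRep QfSep p := fun ξ _ =>
  let ⟨_, _, _, _, _, _, y, α, _, h1, h2, _⟩ := exists_secRep_isTerm h𝒳 p hp ξ
  ⟨y, α, h1, h2⟩

end K949.QfRep
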